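import Cfsg.Agent.Lib.Leech.Frame
import Cfsg.Agent.Lib.Leech.UStab
import Cfsg.Agent.Lib.Golay.OctadStab
import Cfsg.Agent.Lib.Golay.Rigid

/-!
An octad through the two points of the standard short vector, with its explicit data, and
coordinates for lattice vectors supported on it.
-/

set_option autoImplicit false

namespace Cfsg.Agent.CoTwoCent

open Cfsg Cfsg.Agent.Leech Cfsg.Agent.Golay24

noncomputable section

/-- The positions of the octad. -/
def oN : Fin 8 → ℕ := ![23, 0, 2, 4, 5, 6, 10, 11]

/-- The points of the octad. -/
def op (k : Fin 8) : GolayPt := pt ⟨oN k % 24, Nat.mod_lt _ (by norm_num)⟩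

/-- The mask of the octad. -/
def octN : ℕ := 8391797

/-- The mask of the complement. -/
def coN : ℕ := 8385418

/-- The octad. -/
def Oct : Finset GolayPt := Golay24.setOf octN

/-- The complement of the octad. -/
def Co : Finset GolayPt := Golay24.setOf coN

/-- The codewords missing the octad. -/
def coCode : List ℕ := [0, 307594, 762504, 987906, 1164162, 1405448, 1728778, 2019456, 2322816,
  2605066, 2675464, 2908802, 3322370, 3539848, 3739786, 4038912, 4346506, 4645632, 4845570,
  5063048, 5476616, 5709954, 5780352, 6062602, 6365962, 6656640, 6979970, 7221256, 7397512,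
  7622914, 8077824, 8385418]

/-- The elements fixing the octad pointwise. -/
def coPerms : List ℕ := [984818244535754528103549039458486304,
  967739223789245171407146504132003936, 978241746458226444833005867658250464,
  983553042649537266979977019204733184, 959823939071994704882402347086186784,
  974394222122509349096603230276913536, 976539006901119804582877792120867232,
  971700361611140356443901154824849856, 980747918883362939279568022996060640,
  972388651884523380316328689283009024, 965094429999691373696704173595626016,
  981940260449521198767676458684353088, 975141542956546445243913353447475808,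
  979236149903553240597937305795791488, 965823287528192349793434105431984800,
  957028651706772161000819827381930688]

theorem InC_setOf {m : ℕ} (hm : m < 2 ^ 24) (h : inCode m = true) : InC (Golay24.setOf m) :=
  mem_supports_iff_inCode.2 (by rw [maskOf_setOf hm]; exact h)

theorem InC_Co : InC Co := InC_setOf (by decide) (by decide +kernel)

theorem Oct_mem : Oct ∈ octads := setOf_mem_octads (by decide +kernel)

theorem mem_Co {i : GolayPt} : i ∈ Co ↔ i ∉ Oct := by
  revert i; decide +kernel

theorem Oct_eq : ∀ i ∈ Oct, ∃ k, i = op k := by decide +kernel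

theorem op_mem : ∀ k, op k ∈ Oct := by decide +kernel

theorem op_injective : Function.Injective op := by decide +kernel

theorem op_zero : op 0 = ptP := by decide +kernel

theorem op_one : op 1 = ptQ := by decide +kernel

theorem ptP_mem : ptP ∈ Oct := op_zero ▸ op_mem 0

theorem ptQ_mem : ptQ ∈ Oct := op_one ▸ op_mem 1

/-- A vector on the octad, as an integer vector. -/
def emb (a : Fin 8 → ℤ) : Vec := fun i => ∑ k, if i = op k then a k else 0

theorem emb_op (a : Fin 8 → ℤ) (k : Fin 8) : emb a (op k) = a k := by
  simp [emb, op_injective.eq_iff]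

theorem emb_out (a : Fin 8 → ℤ) {i : GolayPt} (h : i ∉ Oct) : emb a i = 0 :=
  Finset.sum_eq_zero fun k _ => if_neg fun e : i = op k => h (e ▸ op_mem k)

theorem eq_emb {x : Vec} (h : ∀ i ∉ Oct, x i = 0) : x = emb fun k => x (op k) := by
  funext i
  by_cases hi : i ∈ Oct
  · obtain ⟨k, rfl⟩ := Oct_eq i hi
    rw [emb_op]
  · rw [h i hi, emb_out _ hi]

theorem dot_emb (x : Vec) (a : Fin 8 → ℤ) : dotInt x (emb a) = ∑ k, x (op k) * a k := by
  simp only [dotInt, emb, Finset.mul_sum, mul_ite, mul_zero]
  rw [Finset.sum_comm]
  simp

theorem emb_add (a b : Fin 8 → ℤ) : emb (a + b) = emb a + emb b := by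
  funext i
  simp only [emb, Pi.add_apply, ← Finset.sum_add_distrib]
  exact Finset.sum_congr rfl fun k _ => by split <;> simp

theorem emb_smul (n : ℤ) (a : Fin 8 → ℤ) : emb (n • a) = n • emb a := by
  funext i
  simp [emb, Finset.mul_sum]

theorem emb_zero : emb 0 = 0 := by
  funext i; simp [emb]

theorem sum_emb (a : Fin 8 → ℤ) : ∑ i, emb a i = ∑ k, a k := by
  simp only [emb]
  rw [Finset.sum_comm]
  simp

end

end Cfsg.Agent.CoTwoCent
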