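import Cfsg.Agent.Lib.CoTwoCent.Basic

/-!
The automorphisms fixing the eight frame vectors of the octad.
-/

set_option autoImplicit false

namespace Cfsg.Agent.CoTwoCent

open Cfsg Cfsg.Agent.Leech Cfsg.Agent.Golay24
open scoped symmDiff Pointwise

noncomputable section

attribute [local irreducible] codeList weightList combTo

/-- The pointwise stabiliser of the frame vectors of the octad. -/
def fixE : Subgroup ↥Co0 where
  carrier := {g | ∀ i ∈ Oct, ap g (e8 i) = e8 i}
  one_mem' := fun i _ => ap_one _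
  mul_mem' := fun {a b} ha hb i hi => by rw [ap_mul _ _ (e8_mem i), hb i hi, ha i hi]
  inv_mem' := fun {a} ha i hi => by
    conv_lhs => rw [← ha i hi]
    exact ap_inv_ap a (e8_mem i)

/-- The sign change on the complement of the octad. -/
def tEl : ↥Co0 := signCo Co InC_Co

theorem ap_tEl {x : Vec} (hx : x ∈ leechLattice) : ap tEl x = mono 1 Co x :=
  ap_signCo_mono InC_Co hx

theorem tEl_mem : tEl ∈ fixE := fun i hi => by
  funext j
  rw [tEl, ap_signCo InC_Co (e8_mem i)]
  by_cases hj : j ∈ Co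
  · have hji : j ≠ i := fun e => mem_Co.1 hj (e ▸ hi)
    simp [hj, e8, hji]
  · rw [if_neg hj]

theorem coCode_ok : (coCode.all fun c => decide (c < 2 ^ 24) && inCode c && (Nat.land c octN == 0)) = true := by
  decide +kernel

theorem coCode_nodup : coCode.Nodup := by decide +kernel

theorem coCode_filter : ((codeList.filter fun c => Nat.land c octN == 0).all fun c => coCode.contains c) = true := by
  decide +kernel

theorem mem_coCode_spec {c : ℕ} (h : c ∈ coCode) :
    c < 2 ^ 24 ∧ InC (Golay24.setOf c) ∧ Disjoint (Golay24.setOf c) Oct := by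
  have h' := List.all_eq_true.1 coCode_ok c h
  simp only [Bool.and_eq_true, decide_eq_true_eq, beq_iff_eq] at h'
  refine ⟨h'.1.1, InC_setOf h'.1.1 h'.1.2, ?_⟩
  rw [Oct, Finset.disjoint_iff_inter_eq_empty, ← setOf_land]
  show Golay24.setOf (Nat.land c octN) = ∅
  rw [h'.2]
  ext x; simp

theorem mask_mem_coCode {S : Finset GolayPt} (hS : InC S) (hd : Disjoint S Oct) :
    maskOf S ∈ coCode := by
  have h := List.all_eq_true.1 coCode_filter (maskOf S)
    (List.mem_filter.2 ⟨mem_supports_iff.1 hS, beq_iff_eq.2 (eq_of_testBit24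
      (lt_of_le_of_lt Nat.and_le_left (maskOf_lt S)) (by norm_num) fun i => ?_)⟩)
  · exact List.contains_iff_mem.1 h
  · show (maskOf S &&& octN).testBit i = (0 : ℕ).testBit i
    rw [Nat.zero_testBit, Nat.testBit_and, Bool.eq_false_iff]
    intro hh
    rw [Bool.and_eq_true, testBit_maskOf, decide_eq_true_eq] at hh
    refine Finset.disjoint_left.1 hd hh.1 ?_
    rw [Oct, mem_setOf, idx_pt]
    exact hh.2

theorem coPerms_ok : (coPerms.all fun p => inM24 p &&
    ((List.range 24).all fun i => !Nat.testBit octN i || app p i == i)) = true := by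
  decide +kernel

theorem coPerms_cover : ((List.range 24).all fun i => Nat.testBit octN i ||
    (coPerms.map fun p => app p 1).contains i) = true := by
  decide +kernel

theorem coPerms_imgNodup : (coPerms.map fun p => app p 1).Nodup := by decide +kernel

theorem coPerms_valid {p : ℕ} (h : p ∈ coPerms) : validP p = true := by
  have := List.all_eq_true.1 coPerms_ok p h
  simp only [Bool.and_eq_true] at this
  exact valid_of_inM24 this.1

theorem coPerms_mem {p : ℕ} (h : p ∈ coPerms) : toPerm p ∈ octFix Oct := by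
  have h' := List.all_eq_true.1 coPerms_ok p h
  simp only [Bool.and_eq_true, List.all_eq_true, List.mem_range, Bool.or_eq_true,
    Bool.not_eq_true', beq_iff_eq] at h'
  refine mem_octFix.2 ⟨toPerm_mem_M24 h'.1, fun x hx => ?_⟩
  rcases h'.2 (idx x) (idx x).isLt with hb | hb
  · rw [Oct, mem_setOf, hb] at hx; exact absurd hx (by simp)
  · exact idx_inj.1 (Fin.ext (by rw [idx_toPerm (valid_of_inM24 h'.1), hb]))

/-- A point outside the octad. -/
def xOut : GolayPt := pt ⟨1, by norm_num⟩

theorem xOut_not_mem : xOut ∉ Oct := by decide +kernel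

theorem octFix_eq {σ : Equiv.Perm GolayPt} (hσ : σ ∈ octFix Oct) :
    ∃ p ∈ coPerms, σ = toPerm p := by
  obtain ⟨-, -, hfree⟩ := octFix_spec Oct_mem
  have hy : σ xOut ∉ Oct := fun h => xOut_not_mem (by
    have := (mem_octFix.1 hσ).2 _ h
    rwa [σ.injective this] at h)
  have hc := List.all_eq_true.1 coPerms_cover (idx (σ xOut)) (List.mem_range.2 (idx (σ xOut)).isLt)
  simp only [Bool.or_eq_true, List.contains_iff_mem] at hc
  rcases hc with hc | hc
  · exact absurd (mem_setOf.2 hc) hy
  obtain ⟨p, hp, he⟩ := List.mem_map.1 hc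
  have e : toPerm p xOut = σ xOut := idx_inj.1 (Fin.ext (by
    rw [idx_toPerm (coPerms_valid hp), xOut, idx_pt]; exact he))
  refine ⟨p, hp, ?_⟩
  have := hfree _ ((octFix Oct).mul_mem ((octFix Oct).inv_mem (coPerms_mem hp)) hσ) xOut xOut_not_mem
    (by rw [Equiv.Perm.mul_apply, ← e]; simp)
  exact (inv_mul_eq_one.1 this).symm

theorem fixE_mem_frame {g : ↥Co0} (hg : g ∈ fixE) : g ∈ frame := by
  rw [mem_frame, hg none ptP_mem]
  exact Cong.refl _

/-- Every element of the group is monomial, trivial on the octad. -/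
theorem fixE_exists {g : ↥Co0} (hg : g ∈ fixE) :
    ∃ σ S, σ ∈ octFix Oct ∧ InC S ∧ Disjoint S Oct ∧ ∀ x ∈ leechLattice, ap g x = mono σ S x := by
  obtain ⟨σ, S, hσ, hS, h⟩ := stab_e8 g (fixE_mem_frame hg)
  have key : ∀ i ∈ Oct, σ i = i ∧ i ∉ S := fun i hi => by
    have e := congrFun ((h _ (e8_mem i)).symm.trans (hg i hi)) (σ i)
    simp only [mono, e8, Equiv.symm_apply_apply, if_true] at e
    by_cases hs : σ i = i
    · rw [hs, if_pos rfl] at e
      refine ⟨hs, fun hiS => ?_⟩
      rw [if_pos hiS] at e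
      norm_num at e
    · rw [if_neg hs] at e
      split at e <;> norm_num at e
  exact ⟨σ, S, mem_octFix.2 ⟨hσ, fun x hx => (key x hx).1⟩, hS,
    Finset.disjoint_right.2 fun i hi => (key i hi).2, h⟩

/-- The element with given permutation and sign set. -/
def mkE (σ : ↥(octFix Oct)) (S : Finset GolayPt) (hS : InC S) : ↥Co0 :=
  signCo S hS * permCo σ σ.2.1

theorem ap_mkE (σ : ↥(octFix Oct)) {S : Finset GolayPt} (hS : InC S) {x : Vec}
    (hx : x ∈ leechLattice) : ap (mkE σ S hS) x = mono σ S x := by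
  rw [mkE, ap_mul _ _ hx, ap_permCo_mono σ.2.1 hx, ap_signCo_mono hS (perm_mem σ.2.1 hx), mono_mono]
  simp
  rw [← Finset.bot_eq_empty, symmDiff_bot]
theorem mkE_mem (σ : ↥(octFix Oct)) {S : Finset GolayPt} (hS : InC S) (hd : Disjoint S Oct) :
    mkE σ S hS ∈ fixE := fun i hi => by
  funext j
  rw [ap_mkE σ hS (e8_mem i)]
  have hσi := (mem_octFix.1 σ.2).2 i hi
  simp only [mono, e8]
  by_cases hj : j = i
  · subst hj
    rw [if_neg (Finset.disjoint_right.1 hd hi), if_pos rfl, if_pos]
    rw [Equiv.symm_apply_eq, hσi]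
  · have : (σ : Equiv.Perm GolayPt).symm j ≠ i := fun e => hj (by
      rw [Equiv.symm_apply_eq, hσi] at e; exact e)
    simp [hj, this]

theorem card_fixE : Nat.card ↥fixE = 2 ^ 9 := by
  let f : ↥(octFix Oct) × {c // c ∈ coCode} → ↥fixE := fun p =>
    ⟨mkE p.1 (Golay24.setOf p.2.1) (mem_coCode_spec p.2.2).2.1,
      mkE_mem p.1 _ (mem_coCode_spec p.2.2).2.2⟩
  have hb : Function.Bijective f := by
    constructor
    · rintro ⟨σ, c⟩ ⟨σ', c'⟩ h
      have h' : mkE σ (Golay24.setOf c.1) _ = mkE σ' (Golay24.setOf c'.1) _ := congrArg Subtype.val h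
      obtain ⟨h1, h2⟩ := mono_unique (σ := (σ : Equiv.Perm GolayPt)) (σ' := σ')
        (S := Golay24.setOf c.1) (S' := Golay24.setOf c'.1) fun i => by
          rw [← ap_mkE σ (mem_coCode_spec c.2).2.1 (e8_mem i), h', ap_mkE σ' _ (e8_mem i)]
      refine Prod.ext (Subtype.ext h1) (Subtype.ext ?_)
      have := congrArg maskOf h2
      rwa [maskOf_setOf (mem_coCode_spec c.2).1, maskOf_setOf (mem_coCode_spec c'.2).1] at this
    · intro g
      obtain ⟨σ, S, hσ, hS, hd, h⟩ := fixE_exists g.2
      refine ⟨⟨⟨σ, hσ⟩, ⟨maskOf S, mask_mem_coCode hS hd⟩⟩, Subtype.ext (ext_ap fun x hx => ?_)⟩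
      show ap (mkE _ (Golay24.setOf (maskOf S)) _) x = _
      rw [ap_mkE _ _ hx, h x hx, setOf_maskOf]
  rw [← Nat.card_congr (Equiv.ofBijective f hb), Nat.card_prod, card_octFix Oct_mem,
    Nat.card_congr (List.Nodup.getEquiv coCode coCode_nodup).symm, Nat.card_eq_fintype_card,
    Fintype.card_fin]
  rfl

theorem perm_Co {σ : Equiv.Perm GolayPt} (hσ : σ ∈ octFix Oct) : Co.image σ = Co := by
  refine Finset.eq_of_subset_of_card_le (fun y hy => ?_)
    (le_of_eq (Finset.card_image_of_injective Co σ.injective).symm)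
  obtain ⟨x, hx, rfl⟩ := Finset.mem_image.1 hy
  refine mem_Co.2 fun hc => mem_Co.1 hx ?_
  have := (mem_octFix.1 hσ).2 _ hc
  rwa [σ.injective this] at hc

theorem tEl_comm {g : ↥Co0} (hg : g ∈ fixE) : g * tEl = tEl * g := by
  obtain ⟨σ, S, hσ, -, -, h⟩ := fixE_exists hg
  refine ext_ap fun x hx => ?_
  rw [ap_mul _ _ hx, ap_mul _ _ hx, ap_tEl (ap_mem g hx), h x hx, h _ (ap_mem tEl hx), ap_tEl hx,
    mono_mono, mono_mono, perm_Co hσ]
  simp [symmDiff_comm]

theorem table_sq : (coPerms.all fun p => coCode.all fun c =>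
    (Nat.xor (img p c) c == 0) || (Nat.xor (img p c) c == coN)) = true := by decide +kernel

theorem sq_cases {g : ↥Co0} (hg : g ∈ fixE) : g ^ 2 = 1 ∨ g ^ 2 = tEl := by
  obtain ⟨σ, S, hσ, hS, hd, h⟩ := fixE_exists hg
  obtain ⟨p, hp, rfl⟩ := octFix_eq hσ
  obtain ⟨hsq, -, -⟩ := octFix_spec Oct_mem
  have hv := coPerms_valid hp
  have hi : S.image (toPerm p) = Golay24.setOf (img p (maskOf S)) := by
    rw [← maskOf_smul hv, setOf_maskOf]; rfl
  have e : S ∆ S.image (toPerm p) = Golay24.setOf (Nat.xor (img p (maskOf S)) (maskOf S)) := by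
    rw [hi]
    show _ = Golay24.setOf (img p (maskOf S) ^^^ maskOf S)
    ext x
    rw [Finset.mem_symmDiff, mem_setOf, mem_setOf, Nat.testBit_xor]
    have : x ∈ S ↔ (maskOf S).testBit (idx x) = true := by rw [testBit_maskOf]; simp
    rw [this]
    cases (maskOf S).testBit (idx x) <;> cases (img p (maskOf S)).testBit (idx x) <;> simp
  have hap : ∀ x ∈ leechLattice, ap (g ^ 2) x = mono 1 (S ∆ S.image (toPerm p)) x := fun x hx => by
    rw [pow_two, ap_mul _ _ hx, h _ (ap_mem g hx), h x hx, mono_mono, hsq _ hσ]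
  have ht := List.all_eq_true.1 (List.all_eq_true.1 table_sq p hp) _ (mask_mem_coCode hS hd)
  simp only [Bool.or_eq_true, beq_iff_eq] at ht
  rcases ht with ht | ht <;> rw [ht] at e <;> rw [e] at hap
  · left
    refine ext_ap fun x hx => ?_
    rw [hap x hx, ap_one]
    funext i; simp [mono, Equiv.Perm.one_def]
  · right
    exact ext_ap fun x hx => by rw [hap x hx, ap_tEl hx]; rfl

theorem table_perm : (coPerms.all fun p => isIdP p ||
    coCode.any fun c => !(img p c == c)) = true := by decide +kernel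

theorem table_sign : (coCode.all fun c => (c == 0) || (c == coN) ||
    coPerms.any fun p => !(img p c == c)) = true := by decide +kernel

theorem comm_signs {σ : Equiv.Perm GolayPt} {S T : Finset GolayPt} {τ : Equiv.Perm GolayPt}
    {g k : ↥Co0} (hg : ∀ x ∈ leechLattice, ap g x = mono σ S x)
    (hk : ∀ x ∈ leechLattice, ap k x = mono τ T x) (hc : g * k = k * g) :
    S ∆ T.image σ = T ∆ S.image τ :=
  (mono_unique (σ := σ * τ) (σ' := τ * σ) (S := S ∆ T.image σ) (S' := T ∆ S.image τ) fun i => by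
    rw [← mono_mono, ← mono_mono, ← hk _ (e8_mem i), ← hg _ (e8_mem i),
      ← hg _ (ap_mem k (e8_mem i)), ← hk _ (ap_mem g (e8_mem i)), ← ap_mul _ _ (e8_mem i),
      ← ap_mul _ _ (e8_mem i), hc]).2

theorem central_cases {g : ↥Co0} (hg : g ∈ fixE) (hc : ∀ k ∈ fixE, g * k = k * g) :
    g = 1 ∨ g = tEl := by
  obtain ⟨σ, S, hσ, hS, hd, h⟩ := fixE_exists hg
  obtain ⟨p, hp, rfl⟩ := octFix_eq hσ
  have hv := coPerms_valid hp
  have hp1 : toPerm p = 1 := by
    have ht := List.all_eq_true.1 table_perm p hp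
    simp only [Bool.or_eq_true, List.any_eq_true, Bool.not_eq_true', beq_eq_false_iff_ne] at ht
    rcases ht with ht | ⟨c, hcC, hne⟩
    · exact toPerm_eq_one_of_isIdP hv ht
    exfalso
    obtain ⟨hc24, hcI, hcd⟩ := mem_coCode_spec hcC
    have hk := mkE_mem (1 : ↥(octFix Oct)) hcI hcd
    have e := comm_signs h (fun x hx => ap_mkE 1 hcI hx) (hc _ hk)
    rw [show ((1 : ↥(octFix Oct)) : Equiv.Perm GolayPt) = 1 from rfl, Equiv.Perm.coe_one,
      Finset.image_id, symmDiff_comm (Golay24.setOf c) S] at e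
    have e' : toPerm p • Golay24.setOf c = Golay24.setOf c := symmDiff_right_injective S e
    rw [smul_setOf hv] at e'
    have := congrArg maskOf e'
    rw [maskOf_setOf (img_lt hv c), maskOf_setOf hc24] at this
    exact hne this
  rw [hp1] at h
  have ht := List.all_eq_true.1 table_sign _ (mask_mem_coCode hS hd)
  simp only [Bool.or_eq_true, List.any_eq_true, Bool.not_eq_true', beq_eq_false_iff_ne,
    beq_iff_eq] at ht
  rcases ht with (ht | ht) | ⟨q, hq, hne⟩
  · left
    have : S = ∅ := by rw [← setOf_maskOf S, ht]; ext x; simp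
    refine ext_ap fun x hx => ?_
    rw [h x hx, this, ap_one]; funext i; simp [mono, Equiv.Perm.one_def]
  · right
    have : S = Co := by rw [← setOf_maskOf S, ht]; rfl
    exact ext_ap fun x hx => by rw [h x hx, this, ap_tEl hx]
  · exfalso
    have hk := mkE_mem ⟨_, coPerms_mem hq⟩ InC_empty (Finset.disjoint_empty_left _)
    have e := comm_signs h (fun x hx => ap_mkE ⟨_, coPerms_mem hq⟩ InC_empty hx) (hc _ hk)
    rw [Finset.image_empty] at e
    simp only [← Finset.bot_eq_empty, symmDiff_bot, bot_symmDiff] at e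
    apply hne
    rw [← maskOf_smul (coPerms_valid hq)]
    exact congrArg maskOf e.symm

end

end Cfsg.Agent.CoTwoCent
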