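import Cfsg.Agent.Lib.CoTwoCent.Map

/-!
The kernel of the action is the group fixing the frame vectors of the octad.
-/

set_option autoImplicit false

namespace Cfsg.Agent.CoTwoCent

open Cfsg Cfsg.Agent.Leech Cfsg.Agent.Golay24 Cfsg.Agent.FormsLib
open scoped symmDiff Matrix

noncomputable section

attribute [local irreducible] codeList weightList combTo

theorem fixE_fix {g : ↥Co0} (hg : g ∈ fixE) {x : Vec} (hx : x ∈ leechLattice)
    (hs : ∀ i ∉ Oct, x i = 0) : ap g x = x := by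
  obtain ⟨σ, S, hσ, -, hd, h⟩ := fixE_exists hg
  rw [h x hx]
  funext i
  simp only [mono]
  by_cases hi : i ∈ Oct
  · rw [if_neg (Finset.disjoint_right.1 hd hi)]
    congr 1
    rw [Equiv.symm_apply_eq, (mem_octFix.1 hσ).2 i hi]
  · have hsy : σ.symm i ∉ Oct := fun hc => hi (by
      have := (mem_octFix.1 hσ).2 _ hc
      rw [Equiv.apply_symm_apply] at this
      rwa [← this] at hc)
    rw [hs _ hsy, hs i hi]; simp

theorem fixE_le : fixE ≤ CC := fun g hg =>
  mem_CC.2 ⟨tEl_comm hg, fixE_fix hg vecU_mem fun i hi => by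
    rw [vecU_emb]; exact emb_out _ hi⟩

theorem beta_fix {g : ↥Co0} (hg : g ∈ CC) (h1 : matOf g = 1) {x y : Vec} (hy : Seven y) (hx : Seven x) :
    beta y (ap g x) = beta y x := by
  have key : ∀ j {y : Vec}, Seven y → beta y (ap g (bv j)) = beta y (bv j) := by
    intro j y hy
    rw [recon hy (seven_ap hg (seven_bv j)), recon hy (seven_bv j)]
    refine Finset.sum_congr rfl fun s _ => ?_
    congr 1
    have := congrFun (congrFun h1 s.swap) j
    rw [matOf_apply, Sum.swap_swap] at this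
    rw [this, beta_bv, Matrix.one_apply]
    by_cases h : j = s.swap <;> simp [h, eq_comm]
  have hy' := seven_ap (CC.inv_mem hg) hy
  rw [beta_ap_right g hy.1 hx.1, recon hy' hx, recon hy hx]
  refine Finset.sum_congr rfl fun s _ => ?_
  rw [← beta_ap_right g hy.1 (seven_bv _).1, key _ hy]

theorem no_rad {z : Vec} (hz : Seven z) (hn : sqNorm z = 64) (h : ∀ y, Seven y → beta y z = 0) :
    False := by
  have hd : ∀ j, (32 : ℤ) ∣ ∑ k, z (op k) * gen j k := fun j => by
    have h0 := h _ (seven_gen j)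
    obtain ⟨q, hq⟩ := dot16 (seven_gen j) hz
    rw [beta, hq, Int.mul_ediv_cancel_left _ (by norm_num)] at h0
    have h2 : (2 : ℤ) ∣ q := by exact_mod_cast (ZMod.intCast_zmod_eq_zero_iff_dvd q 2).1 h0
    rw [← dot_emb, dot_comm, hq]
    omega
  have hsq : sqNorm z = ∑ k, z (op k) * z (op k) := by
    rw [← dot_emb, ← eq_emb hz.2.1]
    simp [sqNorm, dotInt, pow_two]
  rw [hn, Fin.sum_univ_eight] at hsq
  have hu := hz.2.2
  rw [← op_zero, ← op_one] at hu
  have g0 := hd 0; have g1 := hd 1; have g2 := hd 2; have g3 := hd 3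
  have g4 := hd 4; have g5 := hd 5; have g6 := hd 6; have g7 := hd 7
  simp [gen, Fin.sum_univ_eight] at g0 g1 g2 g3 g4 g5 g6 g7
  generalize z (op 0) = a0, z (op 1) = a1, z (op 2) = a2, z (op 3) = a3, z (op 4) = a4,
    z (op 5) = a5, z (op 6) = a6, z (op 7) = a7 at *
  obtain ⟨b7, rfl⟩ : (4 : ℤ) ∣ a7 := by omega
  obtain ⟨b2, rfl⟩ : (4 : ℤ) ∣ a2 := by omega
  obtain ⟨b3, rfl⟩ : (4 : ℤ) ∣ a3 := by omega
  obtain ⟨b4, rfl⟩ : (4 : ℤ) ∣ a4 := by omega
  obtain ⟨b5, rfl⟩ : (4 : ℤ) ∣ a5 := by omega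
  obtain ⟨b6, rfl⟩ : (4 : ℤ) ∣ a6 := by omega
  obtain ⟨c, rfl⟩ : (4 : ℤ) ∣ a0 := by omega
  obtain rfl : a1 = -(4 * c) := by omega
  have e : 2 * (c * c) + (b2 * b2 + b3 * b3 + b4 * b4 + b5 * b5 + b6 * b6 + b7 * b7) = 4 := by linarith
  have sq : ∀ b : ℤ, ¬ (2 : ℤ) ∣ b → 1 ≤ b * b := fun b hb => by
    have h0 : b ≠ 0 := fun h => hb (h ▸ dvd_zero _)
    rcases lt_or_gt_of_ne h0 with h | h <;> nlinarith
  have par : ∀ b : ℤ, (2 : ℤ) ∣ b * b - b := fun b => by
    obtain ⟨r, hr⟩ := Int.even_mul_succ_self (b - 1)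
    exact ⟨r, by linear_combination hr⟩
  have := mul_self_nonneg c
  by_cases h7 : (2 : ℤ) ∣ b7
  · obtain ⟨d7, rfl⟩ := h7
    obtain ⟨d2, rfl⟩ : (2 : ℤ) ∣ b2 := by omega
    obtain ⟨d3, rfl⟩ : (2 : ℤ) ∣ b3 := by omega
    obtain ⟨d4, rfl⟩ : (2 : ℤ) ∣ b4 := by omega
    obtain ⟨d5, rfl⟩ : (2 : ℤ) ∣ b5 := by omega
    obtain ⟨d6, rfl⟩ : (2 : ℤ) ∣ b6 := by omega
    have e' : c * c + 2 * (d2 * d2 + d3 * d3 + d4 * d4 + d5 * d5 + d6 * d6 + d7 * d7) = 2 := by linarith
    have hc := par c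
    obtain ⟨γ, rfl⟩ : (2 : ℤ) ∣ c := by omega
    have := mul_self_nonneg γ
    have := par d2; have := par d3; have := par d4; have := par d5; have := par d6; have := par d7
    have := mul_self_nonneg d2; have := mul_self_nonneg d3; have := mul_self_nonneg d4
    have := mul_self_nonneg d5; have := mul_self_nonneg d6; have := mul_self_nonneg d7
    have e2 : 2 * γ * (2 * γ) = 4 * (γ * γ) := by ring
    have hγ : γ * γ = 0 := by omega
    obtain rfl : γ = 0 := mul_self_eq_zero.1 hγ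
    omega
  · have := sq b7 h7
    have := sq b2 (by omega); have := sq b3 (by omega); have := sq b4 (by omega)
    have := sq b5 (by omega); have := sq b6 (by omega)
    omega

theorem root_pm {g : ↥Co0} (hg : g ∈ CC) (h1 : matOf g = 1) {a : Vec} (ha : Seven a)
    (hn : sqNorm a = 32) : ap g a = a ∨ ap g a = -a := by
  have hga := seven_ap hg ha
  have hna : sqNorm (ap g a) = 32 := by rw [ap_norm g ha.1, hn]
  obtain ⟨q, hq⟩ := dot16 ha hga
  have hbb := beta_fix hg h1 ha ha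
  rw [beta, beta, hq, Int.mul_ediv_cancel_left _ (by norm_num), show dotInt a a = 32 by
    rw [← hn]; simp [sqNorm, dotInt, pow_two]] at hbb
  have h2 : (2 : ℤ) ∣ q := (ZMod.intCast_zmod_eq_zero_iff_dvd q 2).1 (hbb.trans (by decide))
  have hp : sqNorm (a + ap g a) = 64 + 32 * q := by rw [sqNorm_add, hn, hna, hq]; ring
  have hm : sqNorm (a - ap g a) = 64 - 32 * q := by rw [sqNorm_sub, hn, hna, hq]; ring
  have hp0 := sqNorm_nonneg (a + ap g a)
  have hm0 := sqNorm_nonneg (a - ap g a)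
  have : q = 2 ∨ q = -2 ∨ q = 0 := by omega
  rcases this with rfl | rfl | rfl
  · left
    exact (sub_eq_zero.1 (sqNorm_eq_zero.1 (by rw [hm]; norm_num))).symm
  · right
    exact eq_neg_of_add_eq_zero_right (sqNorm_eq_zero.1 (by rw [hp]; norm_num))
  · exfalso
    refine no_rad (ha.add hga) (by rw [hp]; norm_num) fun y hy => ?_
    rw [beta_comm, beta_add_left ha hga hy, beta_comm (ap g a), beta_fix hg h1 hy ha, beta_comm y]
    exact CharTwo.add_self_eq_zero _

/-- The six points of the octad off the short vector. -/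
def sp (k : Fin 6) : GolayPt := op ⟨k + 2, by omega⟩

theorem sp_facts : ∀ k, sp k ≠ ptP ∧ sp k ≠ ptQ ∧ sp k ∈ Oct := by decide +kernel

theorem sp_exists : ∀ i ∈ Oct, i = ptP ∨ i = ptQ ∨ ∃ k, i = sp k := by decide +kernel

theorem sp_injective : Function.Injective sp := by decide +kernel

theorem seven_pair {p q : GolayPt} (h : p ≠ q) (hp : p ∈ Oct) (hq : q ∈ Oct) (h1 : p ≠ ptP)
    (h2 : p ≠ ptQ) (h3 : q ≠ ptP) (h4 : q ≠ ptQ) : Seven (e44 p q) ∧ Seven (d44 p q) :=
  ⟨⟨e44_mem h, fun i hi => by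
      simp only [e44]; rw [if_neg]; rintro (rfl | rfl) <;> contradiction,
    by simp [e44, Ne.symm h1, Ne.symm h2, Ne.symm h3, Ne.symm h4]⟩,
   ⟨d44_mem h, fun i hi => by
      simp only [d44]
      rw [if_neg (fun e : i = p => hi (e ▸ hp)), if_neg (fun e : i = q => hi (e ▸ hq))],
    by simp [d44, Ne.symm h1, Ne.symm h2, Ne.symm h3, Ne.symm h4]⟩⟩

theorem e8_add {p q : GolayPt} (h : p ≠ q) : e44 p q + d44 p q = e8 p ∧ e44 p q - d44 p q = e8 q := by
  constructor <;> funext i <;> simp only [Pi.add_apply, Pi.sub_apply, e44, d44, e8] <;>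
    by_cases h1 : i = p <;> by_cases h2 : i = q <;> simp [h1, h2, h, Ne.symm h] at *

theorem six_pm {g : ↥Co0} (hg : g ∈ CC) (h1 : matOf g = 1) (k : Fin 6) :
    ap g (e8 (sp k)) = e8 (sp k) ∨ ap g (e8 (sp k)) = -e8 (sp k) := by
  have opt : ∀ l, k ≠ l → ap g (e8 (sp k)) = e8 (sp k) ∨ ap g (e8 (sp k)) = -e8 (sp k) ∨
      ap g (e8 (sp k)) = e8 (sp l) ∨ ap g (e8 (sp k)) = -e8 (sp l) := by
    intro l hl
    have hne : sp k ≠ sp l := fun e => hl (sp_injective e)
    obtain ⟨he, hd⟩ := seven_pair hne (sp_facts k).2.2 (sp_facts l).2.2 (sp_facts k).1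
      (sp_facts k).2.1 (sp_facts l).1 (sp_facts l).2.1
    obtain ⟨hs, hm⟩ := e8_add hne
    rw [← hs, ap_add g he.1 hd.1]
    rcases root_pm hg h1 he (e44_norm hne) with e | e <;>
      rcases root_pm hg h1 hd (d44_norm hne) with e' | e' <;> rw [e, e']
    · exact Or.inl rfl
    · exact Or.inr (Or.inr (Or.inl (by rw [← sub_eq_add_neg, hm])))
    · exact Or.inr (Or.inr (Or.inr (by rw [← hm]; abel)))
    · exact Or.inr (Or.inl (by abel))
  obtain ⟨l, l', hl, hl', hll⟩ : ∃ l l' : Fin 6, k ≠ l ∧ k ≠ l' ∧ l ≠ l' := by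
    clear opt; revert k; decide
  have hinj : ∀ {a b : GolayPt}, e8 a = e8 b ∨ e8 a = -e8 b ∨ -e8 a = e8 b ∨ -e8 a = -e8 b → a = b := by
    intro a b h
    by_contra hne
    rcases h with h | h | h | h <;> have := congrFun h a <;> simp [e8, hne] at this
  rcases opt l hl with h | h | h | h
  · exact Or.inl h
  · exact Or.inr h
  all_goals
    exfalso
    rcases opt l' hl' with h' | h' | h' | h' <;> rw [h] at h' <;>
      first
        | exact hl (sp_injective (hinj (by first | exact Or.inl h' | exact Or.inr (Or.inl h') | exact Or.inr (Or.inr (Or.inl h')) | exact Or.inr (Or.inr (Or.inr h'))))).symm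
        | exact hll (sp_injective (hinj (by first | exact Or.inl h' | exact Or.inr (Or.inl h') | exact Or.inr (Or.inr (Or.inl h')) | exact Or.inr (Or.inr (Or.inr h')))))

theorem six_sign {g : ↥Co0} (hg : g ∈ CC) (h1 : matOf g = 1) :
    (∀ k, ap g (e8 (sp k)) = e8 (sp k)) ∨ ∀ k, ap g (e8 (sp k)) = -e8 (sp k) := by
  have same : ∀ k l, ap g (e8 (sp k)) = e8 (sp k) → ap g (e8 (sp l)) = e8 (sp l) := by
    intro k l hk
    by_cases hkl : k = l
    · exact hkl ▸ hk
    have hne : sp k ≠ sp l := fun e => hkl (sp_injective e)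
    obtain ⟨he, -⟩ := seven_pair hne (sp_facts k).2.2 (sp_facts l).2.2 (sp_facts k).1
      (sp_facts k).2.1 (sp_facts l).1 (sp_facts l).2.1
    have h2 : e8 (sp k) + e8 (sp l) = 2 • e44 (sp k) (sp l) := by
      obtain ⟨a, b⟩ := e8_add hne
      rw [← a, ← b, two_nsmul]; abel
    have h3 := ap_add g (e8_mem (sp k)) (e8_mem (sp l))
    rw [h2, ap_nsmul_two g he.1, hk] at h3
    rcases six_pm hg h1 l with h | h
    · exact h
    exfalso
    rw [h] at h3
    rcases root_pm hg h1 he (e44_norm hne) with e | e <;> rw [e] at h3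
    · have := congrFun h3 (sp l)
      simp [e44, e8, Ne.symm hne] at this
    · have := congrFun h3 (sp k)
      simp [e44, e8, hne] at this
  by_cases h : ∃ k, ap g (e8 (sp k)) = e8 (sp k)
  · obtain ⟨k, hk⟩ := h; exact Or.inl fun l => same k l hk
  · push Not at h; exact Or.inr fun l => (six_pm hg h1 l).resolve_left (h l)

theorem swap_false {g : ↥Co0} (hP : ap g (e8 ptP) = e8 ptQ) (hQ : ap g (e8 ptQ) = e8 ptP)
    (hs : ∀ k, ap g (e8 (sp k)) = -e8 (sp k)) : False := by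
  have hpq : (ptP : GolayPt) ≠ ptQ := by simp
  obtain ⟨σ, S, hσ, -, h⟩ := stab_e8 g (by
    show Cong (ap g (e8 ptP)) (e8 none)
    rw [hP]; exact cong_e8 _ _)
  have key : ∀ {i j : GolayPt}, (ap g (e8 i) = e8 j ∨ ap g (e8 i) = -e8 j) → σ i = j := by
    intro i j hij
    by_contra hne
    have e := h _ (e8_mem i)
    have e' := congrFun e (σ i)
    rcases hij with hij | hij <;> rw [hij] at e' <;>
      simp only [mono, e8, Pi.neg_apply, Equiv.symm_apply_apply, if_true, if_neg hne] at e' <;>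
      split at e' <;> norm_num at e'
  have sP := key (Or.inl hP)
  have sQ := key (Or.inl hQ)
  have sS := fun k => key (Or.inr (hs k))
  have hO : ∀ x, σ x ∈ Oct ↔ x ∈ Oct := by
    have h1 : ∀ x ∈ Oct, σ x ∈ Oct := fun x hx => by
      rcases sp_exists x hx with rfl | rfl | ⟨k, rfl⟩
      · rw [sP]; exact ptQ_mem
      · rw [sQ]; exact ptP_mem
      · rw [sS]; exact (sp_facts k).2.2
    intro x
    refine ⟨fun hx => ?_, h1 x⟩
    have he : Oct.image σ = Oct := Finset.eq_of_subset_of_card_le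
      (fun y hy => by obtain ⟨z, hz, rfl⟩ := Finset.mem_image.1 hy; exact h1 z hz)
      (le_of_eq (Finset.card_image_of_injective Oct σ.injective).symm)
    rw [← he] at hx
    obtain ⟨z, hz, e⟩ := Finset.mem_image.1 hx
    exact σ.injective e ▸ hz
  have hmem : σ.subtypePerm hO ∈ (octRes Oct).range := mem_octRes_range_iff.2 ⟨σ, hσ, hO, rfl⟩
  rw [octRes_range Oct_mem, Equiv.Perm.mem_alternatingGroup] at hmem
  have hswap : σ.subtypePerm hO = Equiv.swap (⟨ptP, ptP_mem⟩ : ↥Oct) ⟨ptQ, ptQ_mem⟩ := by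
    refine Equiv.ext fun x => Subtype.ext ?_
    obtain ⟨x, hx⟩ := x
    show σ x = _
    rcases sp_exists x hx with rfl | rfl | ⟨k, rfl⟩
    · rw [sP, Equiv.swap_apply_left]
    · rw [sQ, Equiv.swap_apply_right]
    · rw [sS, Equiv.swap_apply_of_ne_of_ne]
      · exact fun e => (sp_facts k).1 (congrArg Subtype.val e)
      · exact fun e => (sp_facts k).2.1 (congrArg Subtype.val e)
  rw [hswap, Equiv.Perm.sign_swap (fun e => hpq (congrArg Subtype.val e))] at hmem
  exact absurd hmem (by decide)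

theorem ker_le {g : ↥Co0} (hg : g ∈ CC) (h1 : matOf g = 1) : g ∈ fixE := by
  have hpq : (ptP : GolayPt) ≠ ptQ := by simp
  have hu := (mem_CC.1 hg).2
  have hd : Seven (d44 ptP ptQ) := ⟨d44_mem hpq, fun i hi => by
    simp only [d44]
    rw [if_neg (fun e : i = ptP => hi (e ▸ ptP_mem)), if_neg (fun e : i = ptQ => hi (e ▸ ptQ_mem))],
    by simp [d44]⟩
  obtain ⟨hP, hQ⟩ := e8_add hpq
  rw [← vecU_eq] at hP hQ
  have gP : ap g (e8 ptP) = Spor.vecU + ap g (d44 ptP ptQ) := by rw [← hP, ap_add g vecU_mem hd.1, hu]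
  have gQ : ap g (e8 ptQ) = Spor.vecU - ap g (d44 ptP ptQ) := by rw [← hQ, ap_sub g vecU_mem hd.1, hu]
  -- the half-integral generator ties the two signs together
  have h4 : (4 : ℕ) • emb (gen 0) = 2 • d44 ptP ptQ + (e8 (sp 0) + e8 (sp 1) + e8 (sp 2) + e8 (sp 3) +
      e8 (sp 4) - e8 (sp 5)) := by
    funext i; revert i; decide +kernel
  have hh := seven_gen 0
  have hgh := root_pm hg h1 hh (by decide +kernel)
  have hap : ap g ((4 : ℕ) • emb (gen 0)) = (4 : ℕ) • ap g (emb (gen 0)) := by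
    rw [show (4 : ℕ) = 2 * 2 from rfl, mul_nsmul, ap_nsmul_two g (nsmul_mem hh.1 2),
      ap_nsmul_two g hh.1, ← mul_nsmul]
  have e8m := fun k => e8_mem (sp k)
  have m01 := add_mem (e8m 0) (e8m 1)
  have m012 := add_mem m01 (e8m 2)
  have m0123 := add_mem m012 (e8m 3)
  have m01234 := add_mem m0123 (e8m 4)
  have m012345 := sub_mem m01234 (e8m 5)
  rw [h4, ap_add g (nsmul_mem hd.1 2) m012345, ap_nsmul_two g hd.1, ap_sub g m01234 (e8m 5),
    ap_add g m0123 (e8m 4), ap_add g m012 (e8m 3), ap_add g m01 (e8m 2), ap_add g (e8m 0) (e8m 1)]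
    at hap
  rcases six_sign hg h1 with hs | hs <;> rcases root_pm hg h1 hd (d44_norm hpq) with hdd | hdd
  · intro i hi
    rcases sp_exists i hi with rfl | rfl | ⟨k, rfl⟩
    · rw [gP, hdd, hP]
    · rw [gQ, hdd, hQ]
    · exact hs k
  · exfalso
    simp only [hdd, hs] at hap
    rcases hgh with e | e <;> rw [e] at hap
    · exact absurd (congrFun hap ptP) (by decide +kernel)
    · exact absurd (congrFun hap (sp 0)) (by decide +kernel)
  · exfalso
    simp only [hdd, hs] at hap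
    rcases hgh with e | e <;> rw [e] at hap
    · exact absurd (congrFun hap (sp 0)) (by decide +kernel)
    · exact absurd (congrFun hap ptP) (by decide +kernel)
  · refine (swap_false ?_ ?_ hs).elim
    · rw [gP, hdd, ← sub_eq_add_neg, hQ]
    · rw [gQ, hdd, sub_neg_eq_add, hP]

theorem matOf_fixE {g : ↥Co0} (hg : g ∈ fixE) : matOf g = 1 := by
  ext i j
  rw [matOf_apply, fixE_fix hg (seven_bv j).1 (seven_bv j).2.1, beta_bv, Sum.swap_swap, Matrix.one_apply]
  simp [eq_comm]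

theorem cIso_ker : cIso.ker = fixE.subgroupOf CC := by
  ext g
  rw [MonoidHom.mem_ker, Subgroup.mem_subgroupOf]
  show spEquiv 3 (ZMod 2) (cMap g) = 1 ↔ _
  rw [MulEquiv.map_eq_one_iff]
  exact ⟨fun h => ker_le g.2 (congrArg Subtype.val h), fun h => Subtype.ext (matOf_fixE h)⟩

end

end Cfsg.Agent.CoTwoCent
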