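import Cfsg.Agent.Lib.CoTwoCent.Basic
import Cfsg.Agent.Lib.Leech.Classes

/-!
The rank seven lattice on the octad orthogonal to the short vector, and its alternating form
modulo two.
-/

set_option autoImplicit false

namespace Cfsg.Agent.CoTwoCent

open Cfsg Cfsg.Agent.Leech Cfsg.Agent.Golay24
open scoped symmDiff

noncomputable section

attribute [local irreducible] codeList weightList combTo

/-- Generators of the rank seven lattice. -/
def gen : Fin 8 → (Fin 8 → ℤ) := ![![2, -2, 2, 2, 2, 2, 2, -2], ![4, -4, 0, 0, 0, 0, 0, 0],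
  ![0, 0, 4, 0, 0, 0, 0, -4], ![0, 0, 0, 4, 0, 0, 0, -4], ![0, 0, 0, 0, 4, 0, 0, -4],
  ![0, 0, 0, 0, 0, 4, 0, -4], ![0, 0, 0, 0, 0, 0, 4, -4], ![0, 0, 0, 0, 0, 0, 0, 8]]

/-- Six vectors giving a symplectic basis modulo two. -/
def bas : Fin 3 ⊕ Fin 3 → (Fin 8 → ℤ) := Sum.elim
  ![![2, -2, 2, 2, 2, 2, 2, -2], ![0, 0, 4, -4, 0, 0, 0, 0], ![0, 0, 0, 0, 0, 4, -4, 0]]
  ![![4, -4, 0, 0, 0, 0, 0, 0], ![0, 0, 4, 0, -4, 0, 0, 0], ![0, 0, 0, 0, 0, 4, 0, 4]]

/-- The basis vectors in the lattice. -/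
def bv (i : Fin 3 ⊕ Fin 3) : Vec := emb (bas i)

/-- Lattice vectors on the octad orthogonal to the short vector. -/
def Seven (x : Vec) : Prop := x ∈ leechLattice ∧ (∀ i ∉ Oct, x i = 0) ∧ x ptP + x ptQ = 0

theorem emb_mem_of {a : Fin 8 → ℤ} (h1 : ∀ k, (2 : ℤ) ∣ a k) (h2 : (8 : ℤ) ∣ ∑ k, a k)
    (h3 : (∀ k, (4 : ℤ) ∣ a k) ∨ ∀ k, ¬ (4 : ℤ) ∣ a k) : emb a ∈ leechLattice := by
  refine (mem_leech_iff _).2 ⟨0, fun i => ?_, ?_, ?_⟩
  · by_cases hi : i ∈ Oct
    · obtain ⟨k, rfl⟩ := Oct_eq i hi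
      rw [emb_op, sub_zero]; exact h1 k
    · simp [emb_out a hi]
  · rw [sum_emb]; simpa using h2
  · rcases h3 with h | h
    · have : pat 0 (emb a) = ∅ := Finset.eq_empty_of_forall_notMem fun i hi => by
        rw [mem_pat, sub_zero] at hi
        by_cases hO : i ∈ Oct
        · obtain ⟨k, rfl⟩ := Oct_eq i hO
          rw [emb_op] at hi; exact hi (h k)
        · rw [emb_out a hO] at hi; exact hi (dvd_zero _)
      rw [this]; exact InC_empty
    · have : pat 0 (emb a) = Oct := by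
        ext i
        rw [mem_pat, sub_zero]
        by_cases hO : i ∈ Oct
        · obtain ⟨k, rfl⟩ := Oct_eq i hO
          rw [emb_op]; simp [h k, op_mem]
        · simp [emb_out a hO, hO]
      rw [this]; exact InC_setOf (by decide) (by decide +kernel)

theorem gen_ok : ∀ j, (∀ k, (2 : ℤ) ∣ gen j k) ∧ (8 : ℤ) ∣ ∑ k, gen j k ∧
    ((∀ k, (4 : ℤ) ∣ gen j k) ∨ ∀ k, ¬ (4 : ℤ) ∣ gen j k) ∧ gen j 0 + gen j 1 = 0 := by
  decide +kernel

theorem bas_ok : ∀ j, (∀ k, (2 : ℤ) ∣ bas j k) ∧ (8 : ℤ) ∣ ∑ k, bas j k ∧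
    ((∀ k, (4 : ℤ) ∣ bas j k) ∨ ∀ k, ¬ (4 : ℤ) ∣ bas j k) ∧ bas j 0 + bas j 1 = 0 := by
  decide +kernel

theorem seven_emb {a : Fin 8 → ℤ} (h : (∀ k, (2 : ℤ) ∣ a k) ∧ (8 : ℤ) ∣ ∑ k, a k ∧
    ((∀ k, (4 : ℤ) ∣ a k) ∨ ∀ k, ¬ (4 : ℤ) ∣ a k) ∧ a 0 + a 1 = 0) : Seven (emb a) :=
  ⟨emb_mem_of h.1 h.2.1 h.2.2.1, fun _ hi => emb_out a hi, by
    rw [← op_zero, ← op_one, emb_op, emb_op]; exact h.2.2.2⟩

theorem seven_gen (j : Fin 8) : Seven (emb (gen j)) := seven_emb (gen_ok j)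

theorem seven_bv (i : Fin 3 ⊕ Fin 3) : Seven (bv i) := seven_emb (bas_ok i)

theorem Seven.add {x y : Vec} (hx : Seven x) (hy : Seven y) : Seven (x + y) :=
  ⟨add_mem hx.1 hy.1, fun i hi => by simp [hx.2.1 i hi, hy.2.1 i hi], by
    have h1 := hx.2.2; have h2 := hy.2.2
    simp only [Pi.add_apply]; omega⟩

theorem Seven.neg {x : Vec} (hx : Seven x) : Seven (-x) :=
  ⟨neg_mem hx.1, fun i hi => by simp [hx.2.1 i hi], by
    have h1 := hx.2.2
    simp only [Pi.neg_apply]; omega⟩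

theorem Seven.sub {x y : Vec} (hx : Seven x) (hy : Seven y) : Seven (x - y) :=
  sub_eq_add_neg x y ▸ hx.add hy.neg

theorem oct_all_or_none {x : Vec} (hm : LatM 0 x) (hs : ∀ i ∉ Oct, x i = 0) :
    (∀ k, (4 : ℤ) ∣ x (op k)) ∨ ∀ k, ¬ (4 : ℤ) ∣ x (op k) := by
  have hsub : pat 0 x ⊆ Oct := fun i hi => by
    by_contra hO
    rw [mem_pat, hs i hO] at hi
    exact hi (dvd_zero _)
  rcases InC_weights hm.2.2 with h | h
  · left
    intro k
    have he : pat 0 x = ∅ := Finset.card_eq_zero.1 h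
    by_contra hk
    exact Finset.notMem_empty (op k) (he ▸ mem_pat.2 (by simpa using hk))
  · right
    have he : pat 0 x = Oct := Finset.eq_of_subset_of_card_le hsub (by rw [Oct_mem.2]; omega)
    intro k
    have := op_mem k
    rw [← he, mem_pat, sub_zero] at this
    exact this

theorem exists_coeff {x : Vec} (hx : Seven x) : ∃ c : Fin 8 → ℤ, x = emb (∑ j, c j • gen j) := by
  obtain ⟨hL, hs, hu⟩ := hx
  have hsum : ∑ i, x i = ∑ k, x (op k) := by
    conv_lhs => rw [eq_emb hs, sum_emb]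
  have hout : ∃ i, i ∉ Oct := ⟨Golay24.pt ⟨1, by norm_num⟩, by decide +kernel⟩
  obtain ⟨i0, hi0⟩ := hout
  obtain ⟨m, hm⟩ := (mem_leech_iff x).1 hL
  have hm0 : LatM 0 x := by
    have := latM_of_mem hL (m := 0) (i := i0) (by rw [hs i0 hi0]; simp)
    exact this
  have hall := oct_all_or_none hm0 hs
  have h2 : ∀ k, (2 : ℤ) ∣ x (op k) := fun k => by simpa using hm0.1 (op k)
  have h8 : (8 : ℤ) ∣ ∑ k, x (op k) := by rw [← hsum]; simpa using hm0.2.1
  rw [← op_zero, ← op_one] at hu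
  simp only [Fin.sum_univ_eight] at h8
  obtain ⟨ε, hε⟩ : ∃ ε : ℤ, ∀ k, (4 : ℤ) ∣ x (op k) - ε * gen 0 k := by
    rcases hall with h | h
    · exact ⟨0, fun k => by simpa using h k⟩
    · refine ⟨1, fun k => ?_⟩
      have h1 := h k
      have h2' := h2 k
      fin_cases k <;> simp [gen] at * <;> omega
  have e0 := hε 0; have e1 := hε 1; have e2 := hε 2; have e3 := hε 3
  have e4 := hε 4; have e5 := hε 5; have e6 := hε 6; have e7 := hε 7
  simp [gen] at e0 e1 e2 e3 e4 e5 e6 e7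
  refine ⟨![ε, (x (op 0) - 2 * ε) / 4, (x (op 2) - 2 * ε) / 4, (x (op 3) - 2 * ε) / 4,
    (x (op 4) - 2 * ε) / 4, (x (op 5) - 2 * ε) / 4, (x (op 6) - 2 * ε) / 4,
    (x (op 7) + 2 * ε + 4 * ((x (op 2) - 2 * ε) / 4 + (x (op 3) - 2 * ε) / 4 +
      (x (op 4) - 2 * ε) / 4 + (x (op 5) - 2 * ε) / 4 + (x (op 6) - 2 * ε) / 4)) / 8], ?_⟩
  conv_lhs => rw [eq_emb hs]
  congr 1
  funext k
  simp only [Finset.sum_apply, Pi.smul_apply, smul_eq_mul, Fin.sum_univ_eight]
  fin_cases k <;> simp [gen] <;> omega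

theorem seven_induction {P : Vec → Prop} (h0 : P 0) (hg : ∀ j, P (emb (gen j)))
    (hadd : ∀ x y, Seven x → Seven y → P x → P y → P (x + y))
    (hneg : ∀ x, Seven x → P x → P (-x)) {x : Vec} (hx : Seven x) : P x := by
  obtain ⟨c, rfl⟩ := exists_coeff hx
  have key : ∀ y ∈ AddSubgroup.closure (Set.range fun j => emb (gen j)), Seven y ∧ P y := by
    intro y hy
    induction hy using AddSubgroup.closure_induction with
    | mem z hz => obtain ⟨j, rfl⟩ := hz; exact ⟨seven_gen j, hg j⟩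
    | zero => exact ⟨⟨zero_mem _, fun _ _ => rfl, rfl⟩, h0⟩
    | add a b _ _ ha hb => exact ⟨ha.1.add hb.1, hadd a b ha.1 hb.1 ha.2 hb.2⟩
    | neg a _ ha => exact ⟨ha.1.neg, hneg a ha.1 ha.2⟩
  refine (key _ ?_).2
  let φ : (Fin 8 → ℤ) →+ Vec := AddMonoidHom.mk' emb emb_add
  show φ _ ∈ _
  rw [map_sum]
  exact sum_mem fun j _ => by
    rw [map_zsmul]
    exact AddSubgroup.zsmul_mem _ (AddSubgroup.subset_closure (show φ (gen j) ∈ Set.range fun j => emb (gen j) from Set.mem_range_self j)) _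

/-- The form modulo two. -/
def beta (x y : Vec) : ZMod 2 := ((dotInt x y / 16 : ℤ) : ZMod 2)

theorem gram_ok : ∀ i j, (16 : ℤ) ∣ ∑ k, gen i k * gen j k := by decide +kernel

theorem dot_zero_left (y : Vec) : dotInt 0 y = 0 := by simp [dotInt]

theorem dot16 {x y : Vec} (hx : Seven x) (hy : Seven y) : (16 : ℤ) ∣ dotInt x y := by
  revert y
  refine seven_induction (P := fun x => ∀ {y : Vec}, Seven y → (16 : ℤ) ∣ dotInt x y) ?_ ?_ ?_ ?_ hx
  · intro y _; simp [dot_zero_left]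
  · intro i y hy
    refine seven_induction (P := fun y => (16 : ℤ) ∣ dotInt (emb (gen i)) y) ?_ ?_ ?_ ?_ hy
    · rw [dot_comm, dot_zero_left]; exact dvd_zero _
    · intro j; rw [dot_emb]; simpa only [emb_op] using gram_ok i j
    · intro a b _ _ ha hb; rw [dot_add_right]; exact dvd_add ha hb
    · intro a _ ha; rw [dot_comm, dot_neg_left, dot_comm]; exact ha.neg_right
  · intro a b _ _ ha hb y hy; rw [dot_add_left]; exact dvd_add (ha hy) (hb hy)
  · intro a _ ha y hy; rw [dot_neg_left]; exact (ha hy).neg_right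

theorem beta_comm (x y : Vec) : beta x y = beta y x := by rw [beta, beta, dot_comm]

theorem beta_zero (y : Vec) : beta 0 y = 0 := by simp [beta, dot_zero_left]

theorem beta_add_left {a b y : Vec} (ha : Seven a) (hb : Seven b) (hy : Seven y) :
    beta (a + b) y = beta a y + beta b y := by
  obtain ⟨p, hp⟩ := dot16 ha hy
  obtain ⟨q, hq⟩ := dot16 hb hy
  rw [beta, beta, beta, dot_add_left, hp, hq, ← mul_add, Int.mul_ediv_cancel_left _ (by norm_num),
    Int.mul_ediv_cancel_left _ (by norm_num), Int.mul_ediv_cancel_left _ (by norm_num), Int.cast_add]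

theorem beta_neg_left {a y : Vec} (ha : Seven a) (hy : Seven y) : beta (-a) y = beta a y := by
  obtain ⟨p, hp⟩ := dot16 ha hy
  rw [beta, beta, dot_neg_left, hp, ← mul_neg, Int.mul_ediv_cancel_left _ (by norm_num),
    Int.mul_ediv_cancel_left _ (by norm_num), Int.cast_neg]
  exact CharTwo.neg_eq _

theorem beta_emb (a b : Fin 8 → ℤ) :
    beta (emb a) (emb b) = (((∑ k, a k * b k) / 16 : ℤ) : ZMod 2) := by
  rw [beta, dot_emb]; simp only [emb_op]

theorem recon_table : ∀ i j, ((((∑ k, gen i k * gen j k) / 16 : ℤ) : ZMod 2)) =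
    ∑ s : Fin 3 ⊕ Fin 3, ((((∑ k, gen i k * bas s.swap k) / 16 : ℤ) : ZMod 2)) *
      ((((∑ k, bas s k * gen j k) / 16 : ℤ) : ZMod 2)) := by
  decide +kernel

theorem bas_table : ∀ i j, ((((∑ k, bas i k * bas j k) / 16 : ℤ) : ZMod 2)) =
    if j = i.swap then 1 else 0 := by
  decide +kernel

theorem beta_bv (i j : Fin 3 ⊕ Fin 3) : beta (bv i) (bv j) = if j = i.swap then 1 else 0 := by
  rw [bv, bv, beta_emb]; exact bas_table i j

/-- The six coordinates determine the form. -/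
theorem recon {x y : Vec} (hx : Seven x) (hy : Seven y) :
    beta x y = ∑ s : Fin 3 ⊕ Fin 3, beta x (bv s.swap) * beta (bv s) y := by
  revert y
  refine seven_induction (P := fun x => ∀ {y : Vec}, Seven y →
    beta x y = ∑ s : Fin 3 ⊕ Fin 3, beta x (bv s.swap) * beta (bv s) y) ?_ ?_ ?_ ?_ hx
  · intro y _; simp [beta_zero]
  · intro i y hy
    refine seven_induction (P := fun y => beta (emb (gen i)) y =
      ∑ s : Fin 3 ⊕ Fin 3, beta (emb (gen i)) (bv s.swap) * beta (bv s) y) ?_ ?_ ?_ ?_ hy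
    · simp [beta_comm _ (0 : Vec), beta_zero]
    · intro j; simp only [bv, beta_emb]; exact recon_table i j
    · intro a b ha hb ea eb
      rw [beta_comm, beta_add_left ha hb (seven_gen i), beta_comm a, beta_comm b, ea, eb,
        ← Finset.sum_add_distrib]
      exact Finset.sum_congr rfl fun s _ => by
        rw [beta_comm (bv s) (a + b), beta_add_left ha hb (seven_bv s), beta_comm a, beta_comm b]
        ring
    · intro a ha ea
      rw [beta_comm, beta_neg_left ha (seven_gen i), beta_comm, ea]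
      exact Finset.sum_congr rfl fun s _ => by
        rw [beta_comm (bv s) (-a), beta_neg_left ha (seven_bv s), beta_comm a]
  · intro a b ha hb ea eb y hy
    rw [beta_add_left ha hb hy, ea hy, eb hy, ← Finset.sum_add_distrib]
    exact Finset.sum_congr rfl fun s _ => by
      rw [beta_add_left ha hb (seven_bv _)]; ring
  · intro a ha ea y hy
    rw [beta_neg_left ha hy, ea hy]
    exact Finset.sum_congr rfl fun s _ => by rw [beta_neg_left ha (seven_bv _)]

end

end Cfsg.Agent.CoTwoCent
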