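import Cfsg.Agent.Lib.CoTwoCent.Kernel
import Cfsg.Agent.Lib.Invol.ExtraPairs
import Cfsg.Prelude.Def_Transfer
import Cfsg.Prelude.Def_Solvable

/-!
The centraliser has an extraspecial two-core with symplectic quotient.
-/

set_option autoImplicit false

namespace Cfsg.Agent.CoTwoCent

open Cfsg Cfsg.Agent.Leech Cfsg.Agent.Golay24 Cfsg.Agent.FormsLib
open scoped symmDiff Matrix commutatorElement

noncomputable section

attribute [local irreducible] codeList weightList combTo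

theorem tEl_ne_one : tEl ≠ 1 := fun h => by
  have e := congrArg (fun g => ap g (e8 xOut) xOut) h
  simp only [tEl, ap_signCo InC_Co (e8_mem xOut), ap_one, if_pos (mem_Co.2 xOut_not_mem)] at e
  simp [e8] at e

theorem orderOf_tEl : orderOf tEl = 2 :=
  orderOf_eq_prime (by
    rw [pow_two]
    refine ext_ap fun x hx => ?_
    rw [ap_mul _ _ hx, ap_tEl (ap_mem _ hx), ap_tEl hx, mono_mono, one_mul, ap_one]
    funext i
    simp [mono, Equiv.Perm.one_def]) tEl_ne_one

theorem tEl_mem_CC : tEl ∈ CC := fixE_le tEl_mem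

instance fixE_finite : Finite ↥fixE := Nat.finite_of_card_ne_zero (by rw [card_fixE]; norm_num)

theorem card_ker : Nat.card ↥cIso.ker = 2 ^ 9 := by
  rw [cIso_ker, Nat.card_congr (Subgroup.subgroupOfEquivOfLe fixE_le).toEquiv, card_fixE]

theorem isExtraspecial_fixE : IsExtraspecial 2 ↥fixE := by
  haveI := Fact.mk Nat.prime_two
  let zE : ↥fixE := ⟨tEl, tEl_mem⟩
  have hz : orderOf zE = 2 := by rw [← Subgroup.orderOf_coe]; exact orderOf_tEl
  have hsq : ∀ a : ↥fixE, a ^ 2 ∈ Subgroup.zpowers zE := fun a => by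
    rcases sq_cases a.2 with h | h
    · rw [show a ^ 2 = 1 from Subtype.ext h]; exact one_mem _
    · rw [show a ^ 2 = zE from Subtype.ext h]; exact Subgroup.mem_zpowers _
  have hcen : Subgroup.center ↥fixE = Subgroup.zpowers zE := by
    refine le_antisymm (fun a ha => ?_) (Subgroup.zpowers_le.2 (Subgroup.mem_center_iff.2 fun b =>
      Subtype.ext (tEl_comm b.2)))
    rcases central_cases a.2 (fun k hk => congrArg Subtype.val (Subgroup.mem_center_iff.1 ha ⟨k, hk⟩).symm)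
      with h | h
    · rw [show a = 1 from Subtype.ext h]; exact one_mem _
    · rw [show a = zE from Subtype.ext h]; exact Subgroup.mem_zpowers _
  have hpre : Invol.ExtraPairs.Pre 2 ↥fixE zE := by
    refine ⟨hz, hcen, fun a b => ?_, hsq⟩
    have hcomm : ∀ c ∈ Subgroup.zpowers zE, ∀ y : ↥fixE, y * c = c * y := fun c hc y => by
      rw [← hcen] at hc; exact Subgroup.mem_center_iff.1 hc y
    have h1 := hsq a
    have h2 := hsq b
    have h3 := hsq (b * a)
    have e : ⁅a, b⁆ = (a * b) ^ 2 * (b ^ 2)⁻¹ * (a ^ 2)⁻¹ := by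
      have hc' : (a ^ 2)⁻¹ * b⁻¹ = b⁻¹ * (a ^ 2)⁻¹ := (hcomm _ (inv_mem h1) b⁻¹).symm
      calc ⁅a, b⁆ = a * b * a⁻¹ * b⁻¹ := commutatorElement_def a b
        _ = (a * b) ^ 2 * (b⁻¹ * (a⁻¹ * a⁻¹) * b⁻¹) := by rw [pow_two]; group
        _ = (a * b) ^ 2 * (b⁻¹ * b⁻¹ * (a ^ 2)⁻¹) := by
          rw [show (a⁻¹ * a⁻¹ : ↥fixE) = (a ^ 2)⁻¹ by group, mul_assoc b⁻¹ (a ^ 2)⁻¹,
            hc', ← mul_assoc b⁻¹]
        _ = _ := by group
    rw [e]
    exact mul_mem (mul_mem (hsq _) (inv_mem h2)) (inv_mem h1)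
  exact hpre.extraspecial (by rw [card_fixE]; norm_num)

theorem sp_two_core : ∀ N : Subgroup (SpIso 3 (ZMod 2)), N.Normal → IsPGroup 2 N → N = ⊥ := by
  intro N hN h2
  haveI := Fact.mk Nat.prime_two
  let V := Fin 3 ⊕ Fin 3 → ZMod 2
  letI : MulAction ↥N V :=
    { smul := fun n v => (n : SpIso 3 (ZMod 2)).1 v
      one_smul := fun v => rfl
      mul_smul := fun a b v => rfl }
  haveI : Finite (MulAction.fixedPoints ↥N V) := inferInstance
  have hmod := h2.card_modEq_card_fixedPoints V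
  have h0 : (0 : V) ∈ MulAction.fixedPoints ↥N V := fun n => map_zero ((n : SpIso 3 (ZMod 2)).1)
  have heven : 2 ∣ Nat.card V := by
    rw [show Nat.card V = 2 ^ 6 by simp [V, Nat.card_eq_fintype_card, Fintype.card_fun]]
    norm_num
  have h64 : 2 ∣ Nat.card (MulAction.fixedPoints ↥N V) :=
    (Nat.ModEq.dvd_iff hmod dvd_rfl).1 heven
  obtain ⟨v, hv, hv0⟩ : ∃ v ∈ MulAction.fixedPoints ↥N V, v ≠ 0 := by
    by_contra hcon
    push Not at hcon
    have : MulAction.fixedPoints ↥N V = {0} := Set.eq_singleton_iff_unique_mem.2 ⟨h0, hcon⟩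
    rw [this, Nat.card_coe_set_eq, Set.ncard_singleton] at h64
    omega
  rw [Subgroup.eq_bot_iff_forall]
  intro n hn
  refine Subtype.ext (LinearEquiv.ext fun w => ?_)
  show n.1 w = w
  by_cases hw : w = 0
  · subst hw; exact map_zero _
  obtain ⟨g, hg⟩ := spIso_exists_map_vec hv0 hw
  have := hv ⟨g⁻¹ * n * g, by simpa using hN.conj_mem n hn g⁻¹⟩
  have e : (g⁻¹ : SpIso 3 (ZMod 2)).1 (n.1 (g.1 v)) = v := this
  rw [hg] at e
  have := congrArg g.1 e
  rw [hg] at this
  simpa using this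

theorem pCore_CC : pCore 2 ↥CC = cIso.ker := by
  refine le_antisymm (sSup_le ?_) (le_sSup ⟨inferInstance, IsPGroup.of_card card_ker⟩)
  rintro N ⟨hN, hp⟩
  rw [← Subgroup.map_eq_bot_iff]
  exact sp_two_core _ (hN.map cIso cIso_surjective) (hp.map cIso)

/-- The quotient by the kernel. -/
def quotEquiv : ↥CC ⧸ cIso.ker ≃* Matrix.symplecticGroup (Fin 3) (ZMod 2) :=
  (QuotientGroup.quotientKerEquivOfSurjective cIso cIso_surjective).trans (spEquiv 3 (ZMod 2)).symm

/-- The involution inside the Conway group. -/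
def tCo : ↥Spor.Co2 :=
  ⟨(tEl : Equiv.Perm ↥leechLattice), tEl.2,
    Subtype.ext ((ap_coe tEl Spor.leechU).symm.trans (mem_CC.1 tEl_mem_CC).2)⟩

/-- The centraliser in the Conway group. -/
def centEquiv : ↥(Subgroup.centralizer ({tCo} : Set ↥Spor.Co2)) ≃* ↥CC where
  toFun g := ⟨⟨((g : ↥Spor.Co2) : Equiv.Perm ↥leechLattice), (g : ↥Spor.Co2).2.1⟩, by
    refine Subgroup.mem_inf.2 ⟨Subgroup.mem_centralizer_singleton_iff.2 ?_, (g : ↥Spor.Co2).2.2⟩
    have := congrArg Subtype.val (Subgroup.mem_centralizer_singleton_iff.1 g.2)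
    exact Subtype.ext this⟩
  invFun g := ⟨⟨((g : ↥Co0) : Equiv.Perm ↥leechLattice), (g : ↥Co0).2, (Subgroup.mem_inf.1 g.2).2⟩, by
    refine Subgroup.mem_centralizer_singleton_iff.2 (Subtype.ext ?_)
    have := congrArg Subtype.val (Subgroup.mem_centralizer_singleton_iff.1 (Subgroup.mem_inf.1 g.2).1)
    exact this⟩
  left_inv _ := rfl
  right_inv _ := rfl
  map_mul' _ _ := rfl

theorem map_pCore_le {A B : Type*} [Group A] [Group B] (f : A ≃* B) (p : ℕ) :
    (pCore p A).map f.toMonoidHom ≤ pCore p B := by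
  rw [Subgroup.map_le_iff_le_comap]
  refine sSup_le fun N hN => ?_
  rw [← Subgroup.map_le_iff_le_comap]
  exact le_sSup ⟨hN.1.map _ f.surjective, hN.2.map _⟩

theorem map_pCore {G H : Type*} [Group G] [Group H] (e : G ≃* H) (p : ℕ) :
    (pCore p G).map e.toMonoidHom = pCore p H := by
  refine le_antisymm (map_pCore_le e p) fun x hx => ?_
  obtain ⟨y, rfl⟩ := e.surjective x
  refine ⟨y, ?_, rfl⟩
  have := map_pCore_le e.symm p ⟨e y, hx, rfl⟩
  simpa using this

theorem extraspecial_transport {A B : Type*} [Group A] [Group B] [Finite A] [Finite B] (e : A ≃* B)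
    (h : IsExtraspecial 2 A) (hcard : Nat.card A ≠ 2) : IsExtraspecial 2 B := by
  haveI := Fact.mk Nat.prime_two
  obtain ⟨z, hz⟩ := Invol.ExtraPairs.pre_of_extraspecial h
  refine Invol.ExtraPairs.Pre.extraspecial (z := e z) ⟨?_, ?_, fun a b => ?_, fun a => ?_⟩
    (by rwa [← Nat.card_congr e.toEquiv])
  · rw [MulEquiv.orderOf_eq, hz.ordz]
  · ext x
    obtain ⟨y, rfl⟩ := e.surjective x
    have h1 : e y ∈ Subgroup.center B ↔ y ∈ Subgroup.center A := by
      simp [Subgroup.mem_center_iff, e.surjective.forall, ← map_mul]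
    have h2 : e y ∈ Subgroup.zpowers (e z) ↔ y ∈ Subgroup.zpowers z := by
      simp [Subgroup.mem_zpowers_iff, ← map_zpow]
    rw [h1, h2, hz.center_eq]
  · obtain ⟨a, rfl⟩ := e.surjective a
    obtain ⟨b, rfl⟩ := e.surjective b
    obtain ⟨k, hk⟩ := hz.comm_mem a b
    exact ⟨k, by simp [← map_zpow, ← map_commutatorElement, hk]⟩
  · obtain ⟨a, rfl⟩ := e.surjective a
    obtain ⟨k, hk⟩ := hz.pow_mem a
    exact ⟨k, by simp [← map_zpow, ← map_pow, hk]⟩

theorem co2_involution_centralizer : ∃ t : ↥Spor.Co2, orderOf t = 2 ∧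
    IsExtraspecial 2 (pCore 2 ↥(Subgroup.centralizer ({t} : Set ↥Spor.Co2))) ∧
    Nat.card (pCore 2 ↥(Subgroup.centralizer ({t} : Set ↥Spor.Co2))) = 2 ^ 9 ∧
    Nonempty (↥(Subgroup.centralizer ({t} : Set ↥Spor.Co2)) ⧸
      pCore 2 ↥(Subgroup.centralizer ({t} : Set ↥Spor.Co2)) ≃*
        Matrix.symplecticGroup (Fin 3) (ZMod 2)) := by
  refine ⟨tCo, ?_, ?_, ?_, ?_⟩
  · rw [← Subgroup.orderOf_coe]
    show orderOf (tEl : Equiv.Perm ↥leechLattice) = 2
    rw [Subgroup.orderOf_coe]; exact orderOf_tEl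
  all_goals
    have hP : pCore 2 ↥(Subgroup.centralizer ({tCo} : Set ↥Spor.Co2)) =
        cIso.ker.map centEquiv.symm.toMonoidHom := by
      rw [← pCore_CC, map_pCore]
  · rw [hP]
    have e : ↥fixE ≃* ↥(cIso.ker.map centEquiv.symm.toMonoidHom) :=
      ((Subgroup.subgroupOfEquivOfLe fixE_le).symm.trans (MulEquiv.subgroupCongr cIso_ker.symm)).trans
        (cIso.ker.equivMapOfInjective _ centEquiv.symm.injective)
    haveI : Finite ↥(cIso.ker.map centEquiv.symm.toMonoidHom) := Finite.of_equiv _ e.toEquiv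
    exact extraspecial_transport e isExtraspecial_fixE (by rw [card_fixE]; norm_num)
  · rw [hP, Subgroup.card_map_of_injective centEquiv.symm.injective, card_ker]
  · exact ⟨(QuotientGroup.congr _ cIso.ker centEquiv ((map_pCore centEquiv 2).trans pCore_CC)).trans
      quotEquiv⟩

end

end Cfsg.Agent.CoTwoCent
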