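import Cfsg.Agent.Lib.CoTwoCent.Fix
import Cfsg.Agent.Lib.CoTwoCent.Lat
import Cfsg.Agent.Lib.Forms.SpSimple

/-!
The action of the centraliser on the six-dimensional symplectic space over the field of two
elements.
-/

set_option autoImplicit false

namespace Cfsg.Agent.CoTwoCent

open Cfsg Cfsg.Agent.Leech Cfsg.Agent.Golay24 Cfsg.Agent.FormsLib
open scoped symmDiff Matrix Pointwise

noncomputable section

attribute [local irreducible] codeList weightList combTo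

/-- The short vector as a lattice element. -/
def uL : ↥leechLattice := ⟨Spor.vecU, vecU_mem⟩

/-- The centraliser of the sign change in the stabiliser of the short vector. -/
def CC : Subgroup ↥Co0 := Subgroup.centralizer {tEl} ⊓ MulAction.stabilizer ↥Co0 uL

theorem mem_CC {g : ↥Co0} : g ∈ CC ↔ g * tEl = tEl * g ∧ ap g Spor.vecU = Spor.vecU := by
  rw [CC, Subgroup.mem_inf, Subgroup.mem_centralizer_singleton_iff, MulAction.mem_stabilizer_iff]
  refine and_congr Iff.rfl ⟨fun h => ?_, fun h => ?_⟩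
  · show ap g (uL : Vec) = _
    rw [ap_coe, h]; rfl
  · exact Subtype.ext (by rw [← ap_coe]; exact h)

theorem fix_supp {x : Vec} (hx : x ∈ leechLattice) : ap tEl x = x ↔ ∀ i ∉ Oct, x i = 0 := by
  constructor
  · intro h i hi
    have := congrFun h i
    rw [tEl, ap_signCo InC_Co hx, if_pos (mem_Co.2 hi)] at this
    omega
  · intro h
    funext i
    rw [tEl, ap_signCo InC_Co hx]
    by_cases hi : i ∈ Co
    · rw [if_pos hi, h i (mem_Co.1 hi)]; rfl
    · rw [if_neg hi]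

theorem seven_ap {g : ↥Co0} (hg : g ∈ CC) {x : Vec} (hx : Seven x) : Seven (ap g x) := by
  obtain ⟨hc, hu⟩ := mem_CC.1 hg
  refine ⟨ap_mem g hx.1, (fix_supp (ap_mem g hx.1)).1 ?_, ?_⟩
  · rw [← ap_mul _ _ hx.1, ← hc, ap_mul _ _ hx.1, (fix_supp hx.1).2 hx.2.1]
  · have h := ap_dot g hx.1 vecU_mem
    rw [hu, dot_vecU, dot_vecU] at h
    have := hx.2.2
    omega

theorem beta_ap (g : ↥Co0) {x y : Vec} (hx : x ∈ leechLattice) (hy : y ∈ leechLattice) :
    beta (ap g x) (ap g y) = beta x y := by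
  rw [beta, beta, ap_dot g hx hy]

theorem beta_ap_right (g : ↥Co0) {x y : Vec} (hx : x ∈ leechLattice) (hy : y ∈ leechLattice) :
    beta x (ap g y) = beta (ap g⁻¹ x) y := by
  conv_rhs => rw [← beta_ap g (ap_mem _ hx) hy, ← ap_mul _ _ hx, mul_inv_cancel, ap_one]

/-- The matrix of an element. -/
def matOf (g : ↥Co0) : Matrix (Fin 3 ⊕ Fin 3) (Fin 3 ⊕ Fin 3) (ZMod 2) :=
  Matrix.of fun i j => beta (bv i.swap) (ap g (bv j))

theorem matOf_apply (g : ↥Co0) (i j : Fin 3 ⊕ Fin 3) :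
    matOf g i j = beta (bv i.swap) (ap g (bv j)) := rfl

theorem matOf_mul {g h : ↥Co0} (hg : g ∈ CC) (hh : h ∈ CC) : matOf (g * h) = matOf g * matOf h := by
  ext i j
  rw [Matrix.mul_apply, matOf_apply, ap_mul _ _ (seven_bv j).1,
    beta_ap_right g (seven_bv _).1 (ap_mem h (seven_bv j).1),
    recon (seven_ap (CC.inv_mem hg) (seven_bv _)) (seven_ap hh (seven_bv j))]
  rw [← Equiv.sum_comp (Equiv.sumComm (Fin 3) (Fin 3))]
  refine Finset.sum_congr rfl fun s _ => ?_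
  simp only [matOf_apply, Equiv.sumComm_apply, Sum.swap_swap]
  rw [beta_ap_right g (seven_bv _).1 (seven_bv s).1]

theorem matOf_one : matOf 1 = 1 := by
  ext i j
  rw [matOf_apply, ap_one, beta_bv, Sum.swap_swap, Matrix.one_apply]
  simp [eq_comm]

theorem spB_mod_two (u v : Fin 3 ⊕ Fin 3 → ZMod 2) :
    spB 3 (ZMod 2) u v = ∑ s : Fin 3 ⊕ Fin 3, u s * v s.swap := by
  rw [spB_expand, Fintype.sum_sum_type, ← Finset.sum_add_distrib]
  refine Finset.sum_congr rfl fun i _ => ?_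
  simp only [Sum.swap_inl, Sum.swap_inr, CharTwo.sub_eq_add]
  ring

theorem matOf_mem {g : ↥Co0} (hg : g ∈ CC) :
    matOf g ∈ Matrix.symplecticGroup (Fin 3) (ZMod 2) := by
  have hcol : ∀ i j, spB 3 (ZMod 2) (matOf g *ᵥ Pi.single i 1) (matOf g *ᵥ Pi.single j 1) =
      spB 3 (ZMod 2) (Pi.single i 1) (Pi.single j 1) := by
    intro i j
    rw [Matrix.mulVec_single_one, Matrix.mulVec_single_one, spB_mod_two, spB_mod_two]
    have e : beta (ap g (bv i)) (ap g (bv j)) = if j = i.swap then 1 else 0 := by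
      rw [beta_ap g (seven_bv i).1 (seven_bv j).1, beta_bv]
    rw [recon (seven_ap hg (seven_bv i)) (seven_ap hg (seven_bv j))] at e
    have e2 : ∑ s : Fin 3 ⊕ Fin 3, (Pi.single i 1 : Fin 3 ⊕ Fin 3 → ZMod 2) s *
        (Pi.single j 1 : Fin 3 ⊕ Fin 3 → ZMod 2) s.swap = if j = i.swap then 1 else 0 := by
      rw [Finset.sum_eq_single i (fun s _ hs => by simp [hs]) (fun h => absurd (Finset.mem_univ i) h)]
      simp [Pi.single_apply, eq_comm]
    rw [e2, ← e]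
    refine Finset.sum_congr rfl fun s _ => ?_
    simp only [Matrix.col_apply, matOf_apply, Sum.swap_swap]
    rw [beta_comm (bv s.swap)]
  rw [mem_symplectic_iff]
  intro u v
  have : (spB 3 (ZMod 2)).compl₁₂ (matOf g).mulVecLin (matOf g).mulVecLin = spB 3 (ZMod 2) :=
    LinearMap.ext_basis (Pi.basisFun _ _) (Pi.basisFun _ _) fun i j => by
      simpa using hcol i j
  exact LinearMap.congr_fun₂ this u v

/-- The action of the centraliser. -/
def cMap : ↥CC →* Matrix.symplecticGroup (Fin 3) (ZMod 2) :=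
  MonoidHom.mk' (fun g => ⟨matOf g, matOf_mem g.2⟩) fun a b => Subtype.ext (matOf_mul a.2 b.2)

theorem cMap_coe (g : ↥CC) : (cMap g : Matrix (Fin 3 ⊕ Fin 3) (Fin 3 ⊕ Fin 3) (ZMod 2)) = matOf g := rfl

/-- The generators: a sextet automorphism composed with a permutation, a permutation, and two
sign changes. -/
def sxLab : Fin 24 → Fin 6 :=
  ![0, 2, 0, 4, 0, 1, 1, 3, 4, 4, 1, 1, 5, 2, 5, 5, 2, 3, 3, 5, 3, 4, 2, 0]

/-- The sextet. -/
def sxC : Sx where
  idx i := sxLab (idx i)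
  card_fib := by decide +kernel
  pair j k h := mem_supports_iff_inCode.2 (by revert j k h; decide +kernel)

/-- The permutation following the sextet automorphism. -/
def pSig : ℕ := 111778230646911516552124950918126628

/-- A permutation of the octad fixing the two points. -/
def pA : ℕ := 966352438697251448027290050625835040

/-- A sign set meeting the octad in two points. -/
def cB : ℕ := 5210132

/-- A sign set meeting the octad in six points. -/
def cT : ℕ := 961654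

theorem pSig_ok : inM24 pSig = true := by decide +kernel
theorem pA_ok : inM24 pA = true := by decide +kernel

theorem cB_inC : InC (Golay24.setOf cB) := InC_setOf (by decide) (by decide +kernel)
theorem cT_inC : InC (Golay24.setOf cT) := InC_setOf (by decide) (by decide +kernel)

theorem vecU_emb : Spor.vecU = emb ![4, 4, 0, 0, 0, 0, 0, 0] := by
  funext i; revert i; decide +kernel

theorem sign_mem_CC {S : Finset GolayPt} (hS : InC S) (hP : ptP ∉ S) (hQ : ptQ ∉ S) :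
    signCo S hS ∈ CC := by
  refine mem_CC.2 ⟨ext_ap fun x hx => ?_, funext fun i => ?_⟩
  · rw [ap_mul _ _ hx, ap_mul _ _ hx, ap_tEl (ap_mem _ hx), ap_signCo_mono hS (ap_mem _ hx),
      ap_tEl hx, ap_signCo_mono hS hx, mono_mono, mono_mono, Equiv.Perm.coe_one, Finset.image_id,
      Finset.image_id, symmDiff_comm]
  · rw [ap_signCo hS vecU_mem]
    by_cases hi : i ∈ S
    · have h1 : i ≠ ptP := fun h => hP (h ▸ hi)
      have h2 : i ≠ ptQ := fun h => hQ (h ▸ hi)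
      simp [hi, vecU_eq, e44, h1, h2]
    · simp [hi]

theorem perm_eq {p : ℕ} (hv : validP p = true) {x y : Vec} (h : ∀ i, y (appPt p i) = x i) :
    mono (toPerm p) ∅ x = y := by
  funext k
  obtain ⟨i, rfl⟩ := (toPerm p).surjective k
  simp only [mono, Finset.notMem_empty, if_false, Equiv.symm_apply_apply]
  rw [toPerm_apply hv]
  exact (h i).symm

theorem perm_comm {p : ℕ} (hp : inM24 p = true) (himg : img p coN = coN) :
    permCo (toPerm p) (toPerm_mem_M24 hp) * tEl = tEl * permCo (toPerm p) (toPerm_mem_M24 hp) :=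
  ext_ap fun x hx => by
    have hv := valid_of_inM24 hp
    have e : Co.image (toPerm p) = Co := by
      show toPerm p • Golay24.setOf coN = Golay24.setOf coN
      rw [smul_setOf hv, himg]
    rw [ap_mul _ _ hx, ap_mul _ _ hx, ap_tEl (ap_mem _ hx), ap_permCo_mono _ (ap_mem _ hx),
      ap_tEl hx, ap_permCo_mono _ hx, mono_mono, mono_mono, e, Finset.image_empty]
    simp only [← Finset.bot_eq_empty, mul_one, one_mul, symmDiff_bot, bot_symmDiff]

theorem xi_comm : sxC.xiCo * tEl = tEl * sxC.xiCo :=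
  ext_ap fun x hx => by
    rw [ap_mul _ _ hx, ap_mul _ _ hx, sxC.ap_xiCo (ap_mem _ hx), ap_tEl (ap_mem _ hx),
      sxC.ap_xiCo hx, ap_tEl hx]
    funext i
    have hlab : ∀ k l : GolayPt, sxC.idx k = sxC.idx l → (k ∈ Co ↔ l ∈ Co) := by decide +kernel
    have hts : sxC.tsum (mono 1 Co x) (sxC.idx i) =
        if i ∈ Co then -sxC.tsum x (sxC.idx i) else sxC.tsum x (sxC.idx i) := by
      rw [Sx.tsum, Sx.tsum]
      by_cases hi : i ∈ Co
      · rw [if_pos hi, ← Finset.sum_neg_distrib]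
        refine Finset.sum_congr rfl fun k hk => ?_
        simp [mono, Equiv.Perm.one_def, (hlab k i (sxC.mem_tet.1 hk)).2 hi]
      · rw [if_neg hi]
        refine Finset.sum_congr rfl fun k hk => ?_
        simp [mono, Equiv.Perm.one_def, (hlab k i (sxC.mem_tet.1 hk)).not.2 hi]
    have h2 := sxC.two_dvd_tsum hx (sxC.idx i)
    simp only [Sx.xi, hts]
    simp only [mono, Equiv.Perm.one_def, Equiv.refl_symm, Equiv.refl_apply, Sx.xi]
    split_ifs <;> omega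

/-- The generators as elements of the centraliser. -/
def gC : Fin 4 → ↥CC := ![
  ⟨permCo (toPerm pSig) (toPerm_mem_M24 pSig_ok) * sxC.xiCo, mem_CC.2 ⟨by
    rw [mul_assoc, xi_comm, ← mul_assoc, perm_comm pSig_ok (by decide +kernel), mul_assoc], by
    rw [ap_mul _ _ vecU_mem, sxC.ap_xiCo vecU_mem, ap_permCo_mono _ (sxC.xi_mem vecU_mem)]
    exact perm_eq (valid_of_inM24 pSig_ok) (by decide +kernel)⟩⟩,
  ⟨permCo (toPerm pA) (toPerm_mem_M24 pA_ok), mem_CC.2 ⟨perm_comm pA_ok (by decide +kernel), by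
    rw [ap_permCo_mono _ vecU_mem]
    exact perm_eq (valid_of_inM24 pA_ok) (by decide +kernel)⟩⟩,
  ⟨signCo _ cB_inC, sign_mem_CC cB_inC (by decide +kernel) (by decide +kernel)⟩,
  ⟨signCo _ cT_inC, sign_mem_CC cT_inC (by decide +kernel) (by decide +kernel)⟩]

/-- The images of the basis vectors under the generators. -/
def gImg : Fin 4 → Fin 3 ⊕ Fin 3 → (Fin 8 → ℤ) := ![
  Sum.elim ![![0, 0, 0, 4, 0, 0, 0, -4], ![-4, 4, 0, 0, 0, 0, 0, 0], ![0, 0, 0, 0, 0, 4, -4, 0]]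
    ![![0, 0, -4, 4, 0, 0, 0, 0], ![-2, 2, 2, 2, -2, 2, 2, 2], ![0, 0, 0, 0, -4, 0, -4, 0]],
  Sum.elim ![![2, -2, 2, 2, 2, 2, 2, -2], ![0, 0, 0, 4, -4, 0, 0, 0], ![0, 0, -4, 0, 0, 0, 4, 0]]
    ![![4, -4, 0, 0, 0, 0, 0, 0], ![0, 0, 0, 4, 0, -4, 0, 0], ![0, 0, 0, 0, 0, 0, 4, 4]],
  Sum.elim ![![2, -2, -2, -2, 2, 2, 2, -2], ![0, 0, -4, 4, 0, 0, 0, 0], ![0, 0, 0, 0, 0, 4, -4, 0]]
    ![![4, -4, 0, 0, 0, 0, 0, 0], ![0, 0, -4, 0, -4, 0, 0, 0], ![0, 0, 0, 0, 0, 4, 0, 4]],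
  Sum.elim ![![2, -2, -2, -2, -2, -2, -2, 2], ![0, 0, -4, 4, 0, 0, 0, 0], ![0, 0, 0, 0, 0, -4, 4, 0]]
    ![![4, -4, 0, 0, 0, 0, 0, 0], ![0, 0, -4, 0, 4, 0, 0, 0], ![0, 0, 0, 0, 0, -4, 0, -4]]]

theorem gC_img : ∀ k j, ap (gC k : ↥Co0) (bv j) = emb (gImg k j) := by
  intro k j
  have hL := (seven_bv j).1
  fin_cases k
  · show ap (permCo (toPerm pSig) (toPerm_mem_M24 pSig_ok) * sxC.xiCo) (bv j) = _
    rw [ap_mul _ _ hL, sxC.ap_xiCo hL, ap_permCo_mono _ (sxC.xi_mem hL)]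
    refine perm_eq (valid_of_inM24 pSig_ok) ?_
    clear hL; revert j; decide +kernel
  · show ap (permCo (toPerm pA) (toPerm_mem_M24 pA_ok)) (bv j) = _
    rw [ap_permCo_mono _ hL]
    refine perm_eq (valid_of_inM24 pA_ok) ?_
    clear hL; revert j; decide +kernel
  · show ap (signCo _ cB_inC) (bv j) = _
    funext i
    rw [ap_signCo cB_inC hL]
    clear hL; revert i j; decide +kernel
  · show ap (signCo _ cT_inC) (bv j) = _
    funext i
    rw [ap_signCo cT_inC hL]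
    clear hL; revert i j; decide +kernel

/-- The matrices of the generators. -/
def gMat (k : Fin 4) : Matrix (Fin 3 ⊕ Fin 3) (Fin 3 ⊕ Fin 3) (ZMod 2) :=
  Matrix.of fun i j => (((∑ n, bas i.swap n * gImg k j n) / 16 : ℤ) : ZMod 2)

theorem matOf_gC (k : Fin 4) : matOf (gC k : ↥Co0) = gMat k := by
  ext i j
  rw [matOf_apply, gC_img, bv, beta_emb]; rfl

/-- A vector from a mask. -/
def vecN (n : ℕ) : Fin 3 ⊕ Fin 3 → ZMod 2 := fun s =>
  if n.testBit (Sum.elim (fun i : Fin 3 => (i : ℕ)) (fun i : Fin 3 => 3 + (i : ℕ)) s) then 1 else 0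

/-- For each nonzero vector, a word carrying the base vector to it. -/
def wordTab : List (List (Fin 4)) := [[2, 1, 1, 0, 2, 1, 0], [0], [1, 1, 2, 0, 1, 0], [1, 1, 1, 0], [2, 0, 1, 0], [0, 1, 1, 2, 1, 0], [2, 0, 2, 1, 0], [], [2, 1, 1, 2, 0, 1, 0], [1, 2, 1, 1, 1, 1, 0], [1, 1, 0, 2, 1, 0], [1, 1, 2, 1, 0], [0, 2, 1, 0], [1, 2, 0, 1, 1, 2, 0, 1, 0], [0, 1, 0], [2, 0, 2, 0, 1, 0], [1, 2, 1, 2, 0, 1, 0], [1, 0], [1, 1, 1, 2, 0, 1, 0], [0, 1, 1, 2, 0, 1, 0], [0, 1, 1, 1, 0, 1, 0], [1, 0, 1, 2, 1, 0], [1, 0, 1, 1, 1, 1, 0], [0, 2, 0, 1, 0], [1, 0, 1, 2, 0, 1, 0], [2, 1, 0], [1, 1, 1, 0, 2, 1, 0], [2, 0, 1, 1, 2, 0, 1, 0], [1, 1, 1, 1, 0, 1, 0], [2, 1, 0, 1, 2, 1, 0], [1, 1, 1, 0, 1, 0], [1, 0, 1, 1, 2, 1, 0], [1, 2, 0, 2, 1, 0], [1, 0, 1, 0, 1, 0], [2, 1, 0, 1, 0], [0, 1, 2, 1, 0], [0, 1, 1, 1, 1, 0], [1, 1, 0], [2, 1, 1, 0, 1, 0], [1, 1, 2, 0, 1, 1, 2, 0, 1, 0], [1, 0, 1, 0], [1, 2, 0, 1, 0, 1, 0], [0, 2, 0,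 1, 0, 1, 0], [1, 1, 1, 2, 0, 1, 1, 2, 0, 1, 0], [1, 1, 0, 1, 0], [1, 2, 1, 0], [2, 0, 1, 1, 1, 1, 0], [0, 1, 1, 0, 1, 0], [2, 1, 2, 0, 1, 0], [1, 1, 1, 1, 0], [1, 2, 0, 1, 0], [0, 1, 0, 1, 0], [2, 1, 2, 1, 0, 1, 0], [1, 1, 0, 1, 0, 1, 0], [1, 2, 1, 0, 1, 0], [2, 0, 1, 1, 0, 1, 0], [0, 1, 2, 0, 1, 0], [2, 1, 1, 1, 1, 0], [1, 0, 2, 1, 0], [2, 0, 1, 0, 1, 0], [0, 1, 2, 1, 0, 1, 0], [0, 2, 1, 0, 1, 0], [1, 0, 2, 0, 1, 0, 1, 0]]

theorem word_ok : ∀ n : Fin 63,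
    ((wordTab.getD n []).foldr (fun k v => gMat k *ᵥ v) (vecN 8)) = vecN (n + 1) := by
  decide +kernel

theorem tau_mat : ∀ j i, gMat 3 i j = (1 + Matrix.vecMulVec (vecN 8)
    (Matrix.J (Fin 3) (ZMod 2) *ᵥ vecN 8)) i j := by
  decide +kernel

theorem vecN_surj : ∀ v : Fin 3 ⊕ Fin 3 → ZMod 2, v = 0 ∨ ∃ n : Fin 63, v = vecN (n + 1) := by
  decide +kernel

/-- The action as isometries. -/
def cIso : ↥CC →* SpIso 3 (ZMod 2) := (spEquiv 3 (ZMod 2)).toMonoidHom.comp cMap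

theorem cIso_gC_apply (k : Fin 4) (v : Fin 3 ⊕ Fin 3 → ZMod 2) : (cIso (gC k)).1 v = gMat k *ᵥ v := by
  show (spEquiv 3 (ZMod 2) (cMap (gC k))).1 v = _
  rw [spEquiv_apply, cMap_coe, matOf_gC]

theorem word_elem (l : List (Fin 4)) :
    ∃ g ∈ cIso.range, g.1 (vecN 8) = l.foldr (fun k v => gMat k *ᵥ v) (vecN 8) := by
  induction l with
  | nil => exact ⟨1, one_mem _, rfl⟩
  | cons k l ih =>
    obtain ⟨g, hg, e⟩ := ih
    refine ⟨cIso (gC k) * g, mul_mem ⟨_, rfl⟩ hg, ?_⟩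
    rw [List.foldr_cons, ← e, ← cIso_gC_apply]
    rfl

theorem cIso_surjective : Function.Surjective cIso := by
  have h0 : spTau (vecN 8) (1 : ZMod 2) ∈ cIso.range := ⟨gC 3, Subtype.ext (LinearEquiv.ext fun v => by
    rw [cIso_gC_apply, coe_spTau, ← sympTransvection_mulVec, one_smul]
    congr 1
    ext i j; exact tau_mat j i)⟩
  have hall : ∀ w c, spTau w c ∈ cIso.range := by
    intro w c
    rcases vecN_surj w with rfl | ⟨n, rfl⟩
    · rw [spTau_zero_vec]; exact one_mem _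
    · have hc : c = 0 ∨ c = 1 := by revert c; decide
      rcases hc with rfl | rfl
      · rw [spTau_zero]; exact one_mem _
      · obtain ⟨g, hg, e⟩ := word_elem (wordTab.getD n [])
        rw [word_ok] at e
        rw [← e, ← spTau_conj]
        exact mul_mem (mul_mem hg h0) (inv_mem hg)
  rw [← MonoidHom.range_eq_top, eq_top_iff, ← closure_spTau, Subgroup.closure_le]
  rintro _ ⟨w, c, rfl⟩
  exact hall w c

end

end Cfsg.Agent.CoTwoCent
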